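import Groth.Agent.H9PB.CurveFinFF.PointDiv
import Groth.Agent.FFLib.Numer
import Groth.Agent.Lib.CurveDeg
import Groth.Agent.Lib.CurveRR
import Groth.Agent.H23.PicMul

/-! Invertible modules on a curve and classes of divisors of its function field. -/

noncomputable section

set_option autoImplicit false
set_option linter.style.haveILetI false
set_option linter.unusedSectionVars false
set_option backward.isDefEq.respectTransparency false
set_option backward.isDefEq.respectTransparency.types false
set_option maxHeartbeats 1000000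

universe u

open CategoryTheory CategoryTheory.Limits AlgebraicGeometry TopologicalSpace Opposite
open Groth.Agent.CurveCohLib.Polar (InR eta_mem)
open Groth.Agent.H23.PicMul
open scoped Groth.Agent.H23.PicMul

namespace Groth.Agent.H9PB.CurveFinFF

open Groth.Agent FunFld

attribute [local instance] ffAlg

variable (k : Type u) [Field k] {X : Scheme.{u}} [X.Over (Spec (CommRingCat.of k))]
  [IsIntegral X] [IsProper (X ↘ Spec (CommRingCat.of k))] [Smooth (X ↘ Spec (CommRingCat.of k))]
  (hdim : topologicalKrullDim X = 1) (h0 : Module.finrank k (Coh.HH X (Coh.structureModule X) 0) = 1)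

/-- `M` has divisor class `D`. -/
def HasClass (M : X.Modules) (hM : PicF.IsInvertible M) (D : Divisor k X.functionField) : Prop :=
  ∃ (U : X.Opens) (e : Γ(M, U)) (he : InvX.IsFrame e) (h : genericPoint X ∈ U),
    divisor k hdim hM he h - D ∈ prinDivs k X.functionField

include h0 in
/-- Two frames give linearly equivalent divisors. -/
theorem divisor_sub_mem {M : X.Modules} (hM : PicF.IsInvertible M) {U U' : X.Opens} {e : Γ(M, U)}
    (he : InvX.IsFrame e) (h : genericPoint X ∈ U) {e' : Γ(M, U')} (he' : InvX.IsFrame e')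
    (h' : genericPoint X ∈ U') :
    divisor k hdim hM he h - divisor k hdim hM he' h' ∈ prinDivs k X.functionField := by
  have hK := (isFunctionField k X hdim h0).1
  set c : X.functionField := ratio he h h' e' with hc
  have hc0 : c ≠ 0 := ratio_ne_zero he h he' h'
  refine (FFLib.mem_prinDivs hK).2 ⟨c⁻¹, inv_ne_zero hc0, ?_⟩
  ext P
  obtain ⟨z, rfl⟩ := (pl k X hdim).surjective P
  have hU := eta_mem (mem_chartU hM z)
  have h1 := exp_divisor k hdim hM he h (isFrame_chartE hM z) hU (mem_chartU hM z)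
  rw [ratio_trans he h he' h' hU] at h1
  erw [map_mul] at h1
  rw [← exp_divisor k hdim hM he' h' (isFrame_chartE hM z) hU (mem_chartU hM z),
    FFLib.val_eq_exp _ hc0, ← WithZero.exp_add, WithZero.exp_inj] at h1
  rw [FFLib.div_apply hK, FFLib.ord_inv, Finsupp.sub_apply]
  linarith

theorem exists_hasClass {M : X.Modules} (hM : PicF.IsInvertible M) : ∃ D, HasClass k hdim M hM D := by
  obtain ⟨U, h, e, he⟩ := InvX.exists_frame hM (genericPoint X)
  exact ⟨_, U, e, he, h, by rw [sub_self]; exact zero_mem _⟩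

include h0 in
theorem HasClass.sub_mem {M : X.Modules} {hM : PicF.IsInvertible M} {D E : Divisor k X.functionField}
    (hD : HasClass k hdim M hM D) (hE : HasClass k hdim M hM E) : D - E ∈ prinDivs k X.functionField := by
  obtain ⟨U, e, he, h, hd⟩ := hD
  obtain ⟨U', e', he', h', hd'⟩ := hE
  have := add_mem (_root_.sub_mem (divisor_sub_mem k hdim h0 hM he h he' h') hd) hd'
  convert this using 1
  abel

theorem HasClass.of_sub_mem {M : X.Modules} {hM : PicF.IsInvertible M} {D E : Divisor k X.functionField}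
    (hD : HasClass k hdim M hM D) (h : D - E ∈ prinDivs k X.functionField) : HasClass k hdim M hM E := by
  obtain ⟨U, e, he, hη, hd⟩ := hD
  refine ⟨U, e, he, hη, ?_⟩
  have := add_mem hd h
  convert this using 1
  abel

theorem HasClass.iso {M N : X.Modules} {hM : PicF.IsInvertible M} (hN : PicF.IsInvertible N) (φ : M ≅ N)
    {D : Divisor k X.functionField} (hD : HasClass k hdim M hM D) : HasClass k hdim N hN D := by
  obtain ⟨U, e, he, h, hd⟩ := hD
  exact ⟨U, _, InvX.IsFrame.map_iso φ he, h, by rw [divisor_iso k hdim hM he h hN φ]; exact hd⟩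

theorem HasClass.tensor {M N : X.Modules} {hM : PicF.IsInvertible M} {hN : PicF.IsInvertible N}
    {D E : Divisor k X.functionField} (hD : HasClass k hdim M hM D) (hE : HasClass k hdim N hN E) :
    HasClass k hdim (CohB1.tensorMod M N) (InvX.isInvertible_tensorMod hM hN) (D + E) := by
  obtain ⟨U, e, he, h, hd⟩ := hD
  obtain ⟨U', e', he', h', hd'⟩ := hE
  have hη : genericPoint X ∈ U ⊓ U' := ⟨h, h'⟩
  refine ⟨_, _, InvX.isFrame_tmul (he.res (inf_le_left : U ⊓ U' ≤ U)) (he'.res (inf_le_right : U ⊓ U' ≤ U')), hη, ?_⟩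
  rw [divisor_tensor k hdim hM (he.res (inf_le_left : U ⊓ U' ≤ U)) hη hN (he'.res (inf_le_right : U ⊓ U' ≤ U')), divisor_res k hdim hM he h inf_le_left hη,
    divisor_res k hdim hN he' h' inf_le_right hη]
  convert add_mem hd hd' using 1
  abel

include h0 in
theorem HasClass.deg {M : X.Modules} {hM : PicF.IsInvertible M} {D : Divisor k X.functionField}
    (hD : HasClass k hdim M hM D) : D.deg = Curv2.deg k X M 1 := by
  obtain ⟨U, e, he, h, hd⟩ := hD
  have hK := (isFunctionField k X hdim h0).1
  obtain ⟨z, hz, hzd⟩ := (FFLib.mem_prinDivs hK).1 hd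
  rw [← deg_divisor k hdim h0 hM he h]
  have := congrArg Divisor.deg hzd
  rw [FFLib.deg_div hK, FFLib.Divisor.deg_sub] at this
  linarith

include h0 in
theorem hasClass_structureModule :
    HasClass k hdim (Coh.structureModule X) CurveDeg.isInvertible_structureModule 0 := by
  obtain ⟨D, hD⟩ := exists_hasClass k hdim (CurveDeg.isInvertible_structureModule (X := X))
  obtain ⟨ε⟩ : Nonempty (CohB1.tensorMod (Coh.structureModule X) (Coh.structureModule X) ≅ Coh.structureModule X) :=
    cl_eq_iff.1 (by rw [cl_tensor, ← one_def, one_mul])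
  have h2 := ((hD.tensor k hdim hD).iso k hdim CurveDeg.isInvertible_structureModule ε).sub_mem k hdim h0 hD
  rw [add_sub_cancel_right] at h2
  exact hD.of_sub_mem k hdim (by rwa [sub_zero])

include h0 in
/-- A module of degree zero with principal class is trivial. -/
theorem cl_eq_one {M : X.Modules} {hM : PicF.IsInvertible M} (hD : HasClass k hdim M hM 0) :
    PicF.cl M = 1 := by
  haveI := CurveCohLib.isNoetherian_of_proper (k := k) (X := X)
  have hK := isFunctionField k X hdim h0
  have hdeg := hD.deg k hdim h0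
  obtain ⟨U, e, he, h, hd⟩ := hD
  have h1 : Module.finrank k (Coh.HH X M 0) = 1 := by
    rw [finrank_h0_eq_ell k hdim hM he h, FFLib.ell_congr hK.1 hd, FFLib.ell_zero hK]
  obtain ⟨s, hs⟩ := CurveRR.exists_hom_ne_zero k (P := M) (by omega)
  haveI : IsIso s := (CurveDeg.deg_le_and_isIso k hdim.le CurveDeg.isInvertible_structureModule hM s hs).2 (by
    rw [CurveDeg.deg_structureModule, ← hdeg, FFLib.Divisor.deg_zero])
  exact cl_eq_iff.2 ⟨(asIso s).symm⟩

include h0 in
theorem exists_module (D : Divisor k X.functionField) :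
    ∃ (M : X.Modules) (hM : PicF.IsInvertible M), HasClass k hdim M hM D := by
  have hO := hasClass_structureModule k hdim h0
  let S : AddSubgroup (Divisor k X.functionField) :=
    { carrier := {D | ∃ (M : X.Modules) (hM : PicF.IsInvertible M), HasClass k hdim M hM D}
      zero_mem' := ⟨_, _, hO⟩
      add_mem' := fun ⟨M, hM, h⟩ ⟨N, hN, h'⟩ => ⟨_, _, h.tensor k hdim h'⟩
      neg_mem' := fun {D} ⟨M, hM, h⟩ => by
        obtain ⟨N, hN, hMN⟩ := H23.PicInv.exists_inverse hM
        obtain ⟨ε⟩ := hMN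
        obtain ⟨E, hE⟩ := exists_hasClass k hdim hN
        have h2 := ((h.tensor k hdim hE).iso k hdim CurveDeg.isInvertible_structureModule ε).sub_mem k hdim h0 hO
        exact ⟨N, hN, hE.of_sub_mem k hdim (by convert h2 using 1; abel)⟩ }
  have hsingle : ∀ P : Place k X.functionField, Finsupp.single P (1 : ℤ) ∈ S := fun P => by
    obtain ⟨p, rfl⟩ := (pl k X hdim).surjective P
    have hI := CurvePoint.isInvertible_ptMod p.1 p.2 k hdim
    obtain ⟨U, h, e, he⟩ := InvX.exists_frame hI (genericPoint X)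
    rw [← neg_mem_iff]
    refine ⟨_, hI, U, e, he, h, ?_⟩
    rw [sub_neg_eq_add]
    exact divisor_ptMod k hdim p hI he h (isFunctionField k X hdim h0).1
  show D ∈ S
  induction D using Finsupp.induction_linear with
  | zero => exact zero_mem S
  | add a b ha hb => exact add_mem ha hb
  | single P n =>
    have : (Finsupp.single P n : Divisor k X.functionField) = n • Finsupp.single P (1 : ℤ) := by
      rw [Finsupp.smul_single, smul_eq_mul, mul_one]
    rw [this]
    exact zsmul_mem (hsingle P) n

/-- The classes of invertible modules of degree `m`. -/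
abbrev ClDeg (X : Scheme.{u}) [X.Over (Spec (CommRingCat.of k))] (m : ℤ) :=
  {c : PicF.Cl X // ∃ L : X.Modules, PicF.cl L = c ∧ PicF.IsInvertible L ∧ Curv2.deg k X L 1 = m}

include hdim h0 in
/-- Degree zero classes are the degree zero divisor classes. -/
theorem nonempty_equiv_pic0 : Nonempty (ClDeg k X 0 ≃ FFLib.Pic0 k X.functionField) := by
  classical
  let cls : ClDeg k X 0 → FFLib.Pic0 k X.functionField := fun c =>
    QuotientAddGroup.mk (⟨(exists_hasClass k hdim c.2.choose_spec.2.1).choose, FFLib.mem_ker_degHom.2 (by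
      rw [(exists_hasClass k hdim c.2.choose_spec.2.1).choose_spec.deg k hdim h0, c.2.choose_spec.2.2])⟩ :
        (degHom k X.functionField).ker)
  refine ⟨Equiv.ofBijective cls ⟨fun c d hcd => ?_, fun q => ?_⟩⟩
  · obtain ⟨hL1, hL2, hL3⟩ := c.2.choose_spec
    obtain ⟨hM1, hM2, hM3⟩ := d.2.choose_spec
    have hsub := QuotientAddGroup.eq_iff_sub_mem.1 hcd
    have hC := (exists_hasClass k hdim hL2).choose_spec
    have hE := (exists_hasClass k hdim hM2).choose_spec
    have hC' := hC.of_sub_mem k hdim (E := (exists_hasClass k hdim hM2).choose) hsub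
    obtain ⟨N, hN, ⟨ε⟩⟩ := H23.PicInv.exists_inverse hM2
    obtain ⟨G, hG⟩ := exists_hasClass k hdim hN
    have h2 := ((hE.tensor k hdim hG).iso k hdim CurveDeg.isInvertible_structureModule ε).sub_mem k hdim h0
      (hasClass_structureModule k hdim h0)
    have h3 := cl_eq_one k hdim h0 ((hC'.tensor k hdim hG).of_sub_mem k hdim h2)
    have h4 : PicF.cl d.2.choose * PicF.cl N = 1 := (cl_tensor _ _).symm.trans (cl_eq_iff.2 ⟨ε⟩)
    rw [cl_tensor] at h3
    refine Subtype.ext ?_
    rw [← hL1, ← hM1]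
    calc PicF.cl c.2.choose = PicF.cl c.2.choose * (PicF.cl N * PicF.cl d.2.choose) := by
          rw [mul_comm (PicF.cl N), h4, mul_one]
      _ = PicF.cl d.2.choose := by rw [← mul_assoc, h3, one_mul]
  · obtain ⟨⟨D, hD⟩, rfl⟩ := QuotientAddGroup.mk_surjective q
    obtain ⟨M, hM, hMD⟩ := exists_module k hdim h0 D
    have hdeg : Curv2.deg k X M 1 = 0 := (hMD.deg k hdim h0).symm.trans (FFLib.mem_ker_degHom.1 hD)
    refine ⟨⟨PicF.cl M, M, rfl, hM, hdeg⟩, QuotientAddGroup.eq_iff_sub_mem.2 ?_⟩
    set c : ClDeg k X 0 := ⟨PicF.cl M, M, rfl, hM, hdeg⟩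
    obtain ⟨hL1, hL2, -⟩ := c.2.choose_spec
    obtain ⟨φ⟩ := cl_eq_iff.1 hL1
    exact (((exists_hasClass k hdim hL2).choose_spec).iso k hdim hM φ).sub_mem k hdim h0 hMD

include hdim h0 in
theorem card_clDeg_zero : Nat.card (ClDeg k X 0) = classNum k X.functionField := by
  obtain ⟨e⟩ := nonempty_equiv_pic0 k hdim h0
  rw [Nat.card_congr e]
  rfl

include hdim in
/-- Translation by a module of degree `m`. -/
theorem nonempty_equiv_clDeg {J : X.Modules} (hJ : PicF.IsInvertible J) {m : ℤ}
    (hm : Curv2.deg k X J 1 = m) : Nonempty (ClDeg k X 0 ≃ ClDeg k X m) := by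
  haveI := CurveCohLib.isNoetherian_of_proper (k := k) (X := X)
  obtain ⟨N, hN, ⟨ε⟩⟩ := H23.PicInv.exists_inverse hJ
  have h1 : PicF.cl J * PicF.cl N = 1 := (cl_tensor _ _).symm.trans (cl_eq_iff.2 ⟨ε⟩)
  have hdN : Curv2.deg k X N 1 = -m := by
    have h := (CurveRR.deg_congr k ε 1).trans (CurveDeg.deg_structureModule k)
    rw [show Curv2.deg k X (CohB1.tensorMod J N) 1 = _ from CurveRR.deg_tensor k hdim hJ hN, hm] at h
    linarith
  exact ⟨{
    toFun := fun c => ⟨c.1 * PicF.cl J, by
      obtain ⟨L, hL1, hL2, hL3⟩ := c.2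
      exact ⟨_, (cl_tensor L J).trans (by rw [hL1]), InvX.isInvertible_tensorMod hL2 hJ,
        (CurveRR.deg_tensor k hdim hL2 hJ).trans (by rw [hL3, hm, zero_add])⟩⟩
    invFun := fun c => ⟨c.1 * PicF.cl N, by
      obtain ⟨L, hL1, hL2, hL3⟩ := c.2
      exact ⟨_, (cl_tensor L N).trans (by rw [hL1]), InvX.isInvertible_tensorMod hL2 hN,
        (CurveRR.deg_tensor k hdim hL2 hN).trans (by rw [hL3, hdN, add_neg_cancel])⟩⟩
    left_inv := fun c => Subtype.ext (by show c.1 * PicF.cl J * PicF.cl N = c.1; rw [mul_assoc, h1, mul_one])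
    right_inv := fun c => Subtype.ext (by
      show c.1 * PicF.cl N * PicF.cl J = c.1
      rw [mul_assoc, mul_comm (PicF.cl N), h1, mul_one]) }⟩

include hdim h0 in
/-- The classes of each degree of a curve over a finite field. -/
theorem clDeg_facts [Finite k] (m : ℤ) :
    Finite (ClDeg k X m) ∧ Nonempty (ClDeg k X m) ∧ Nat.card (ClDeg k X m) = Nat.card (ClDeg k X 0) := by
  have hK := isFunctionField k X hdim h0
  obtain ⟨D₁, hD₁⟩ := FFLib.exists_deg_one hK
  obtain ⟨J, hJ, hJD⟩ := exists_module k hdim h0 (m • D₁)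
  have hm : Curv2.deg k X J 1 = m := by
    rw [← hJD.deg k hdim h0, FFLib.deg_zsmul, hD₁, mul_one]
  obtain ⟨e⟩ := nonempty_equiv_clDeg k hdim hJ hm
  obtain ⟨e₀⟩ := nonempty_equiv_pic0 k hdim h0
  haveI := FFLib.finite_pic0 (k := k) hK.1
  exact ⟨Finite.of_equiv _ (e₀.symm.trans e), ⟨⟨PicF.cl J, J, rfl, hJ, hm⟩⟩, (Nat.card_congr e).symm⟩

end Groth.Agent.H9PB.CurveFinFF
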