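import Groth.Agent.H9PB.CurveFinFF.Degree
import Groth.Agent.CurveAlgEquiv.PullIdeal
import Groth.Agent.Lib.CurvePoint
import Groth.Agent.FFLib.ZetaCount

/-! The divisor of the ideal of a closed point. -/

noncomputable section

set_option autoImplicit false
set_option linter.style.haveILetI false
set_option linter.unusedSectionVars false
set_option backward.isDefEq.respectTransparency false
set_option backward.isDefEq.respectTransparency.types false
set_option maxHeartbeats 1000000

universe u

open CategoryTheory CategoryTheory.Limits AlgebraicGeometry TopologicalSpace Opposite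
open Groth.Agent.CurveCohLib.Polar (InR eta_mem)
open Groth.Agent.AModX (res)

namespace Groth.Agent.H9PB.CurveFinFF

open Groth.Agent

attribute [local instance] ffAlg

variable (k : Type u) [Field k] {X : Scheme.{u}} [X.Over (Spec (CommRingCat.of k))]
  [IsIntegral X] [IsProper (X ↘ Spec (CommRingCat.of k))] [Smooth (X ↘ Spec (CommRingCat.of k))]
  (hdim : topologicalKrullDim X = 1) (h0 : Module.finrank k (Coh.HH X (Coh.structureModule X) 0) = 1)

/-- The value of a section of an ideal in the function field. -/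
def idealVal (I : X.IdealSheafData) {U : X.Opens} (hU : genericPoint X ∈ U) (e : Γ(ClSub.idealMod I, U)) :
    X.presheaf.stalk (genericPoint X) :=
  X.presheaf.germ U (genericPoint X) hU (OmegaSh.idealSect I U e)

theorem idealVal_eq (I : X.IdealSheafData) {U₀ U : X.Opens} {e₀ : Γ(ClSub.idealMod I, U₀)}
    (he₀ : InvX.IsFrame e₀) (h₀ : genericPoint X ∈ U₀) (hU : genericPoint X ∈ U) (e : Γ(ClSub.idealMod I, U)) :
    idealVal I hU e = ratio he₀ h₀ hU e * idealVal I h₀ e₀ := by
  have hres : ∀ {V W : X.Opens} (h : W ≤ V) (hW : genericPoint X ∈ W) (a : Γ(ClSub.idealMod I, V)),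
      idealVal I hW (res _ h a) = idealVal I (h hW) a := fun {V W} h hW a => by
    show X.presheaf.germ W _ hW (OmegaSh.fnSect X W ((ClSub.idealModι I).app W (res _ h a))) = _
    rw [AModX.app_res]
    exact X.presheaf.germ_res_apply (homOfLE h) (genericPoint X) hW _
  have hW : genericPoint X ∈ U₀ ⊓ U := ⟨h₀, hU⟩
  obtain ⟨g, hg, hgr⟩ := exists_coord_ratio he₀ (inf_le_left : U₀ ⊓ U ≤ U₀) hW (res _ inf_le_right e)
  have e1 : ratio he₀ h₀ hU e = X.presheaf.germ (U₀ ⊓ U) _ hW g := by
    rw [← hgr]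
    exact ratio_eq he₀ (by rw [ratio_spec, gM_res])
  rw [e1, ← hres (inf_le_right : U₀ ⊓ U ≤ U) hW e, hg, ← hres (inf_le_left : U₀ ⊓ U ≤ U₀) hW e₀]
  unfold idealVal
  rw [OmegaLib.idealSect_smul, map_mul]

include hdim

/-- A generator of the ideal of a closed point, at a closed point. -/
theorem val_idealVal (p : Pt X) (z : Pt X) {U : X.Opens} {e : Γ(ClSub.idealMod (CurvePoint.ptIdeal p.1 p.2), U)}
    (he : InvX.IsFrame e) (hz : z.1 ∈ U) :
    (pl k X hdim z).1 (idealVal _ (eta_mem hz) e) =
      WithZero.exp (-(Finsupp.single (pl k X hdim p) (1 : ℤ) (pl k X hdim z))) := by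
  classical
  let I := CurvePoint.ptIdeal p.1 p.2
  -- an affine neighbourhood meeting the point only if `z = p`
  obtain ⟨O, hzO, hO⟩ : ∃ O : X.Opens, z.1 ∈ O ∧ (z.1 ≠ p.1 → p.1 ∉ O) := by
    by_cases hzp : z.1 = p.1
    · exact ⟨⊤, trivial, fun h => absurd hzp h⟩
    · exact ⟨⟨{p.1}ᶜ, p.2.isOpen_compl⟩, hzp, fun _ h => h rfl⟩
  obtain ⟨V, hV, hzV, hle⟩ := exists_isAffineOpen_mem_and_subset (show z.1 ∈ U ⊓ O from ⟨hz, hzO⟩)
  have hVU : V ≤ U := fun w hw => (hle hw).1
  let Va : X.affineOpens := ⟨V, hV⟩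
  let ε : Γ(ClSub.idealMod I, V) := res _ hVU e
  have hε : InvX.IsFrame ε := he.res hVU
  let g : Γ(X, V) := OmegaSh.idealSect I V ε
  have hspan : I.ideal Va = Ideal.span {g} := CurveAlgEquiv.ideal_eq_span Va hε
  have hideal : I.ideal Va = PrimeSpectrum.vanishingIdeal (hV.fromSpec ⁻¹' ({p.1} : Set X)) := by
    simp only [I, CurvePoint.ptIdeal, Scheme.IdealSheafData.vanishingIdeal_ideal, TopologicalSpace.Closeds.coe_mk]
    rfl
  -- the value of the generator
  have hval : idealVal I (eta_mem hz) e =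
      algebraMap (X.presheaf.stalk z.1) X.functionField (X.presheaf.germ V z.1 hzV g) := by
    have h1 : idealVal I (eta_mem hzV) ε = idealVal I (eta_mem hz) e := by
      rw [idealVal_eq I hε (eta_mem hzV) (eta_mem hz) e,
        show ratio hε (eta_mem hzV) (eta_mem hz) e = 1 from ratio_eq hε (by rw [one_smul, gM_res]), one_mul]
    rw [← h1]
    exact (TopCat.Presheaf.germ_stalkSpecializes_apply (F := X.presheaf) (U := V)
      (hy := hzV) ((genericPoint_spec X).specializes (Set.mem_univ z.1)) g).symm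
  rw [hval]
  letI := TopCat.Presheaf.algebra_section_stalk X.presheaf (⟨z.1, hzV⟩ : V)
  haveI := hV.isLocalization_stalk ⟨z.1, hzV⟩
  haveI := isDVR k X hdim z.2
  by_cases hzp : z.1 = p.1
  · obtain rfl : z = p := Subtype.ext hzp
    rw [Finsupp.single_eq_same]
    have hpre : hV.fromSpec ⁻¹' ({z.1} : Set X) = {hV.primeIdealOf ⟨z.1, hzV⟩} := by
      ext q
      simp only [Set.mem_preimage, Set.mem_singleton_iff]
      refine ⟨fun h => hV.fromSpec.isOpenEmbedding.injective
        (h.trans (hV.fromSpec_primeIdealOf ⟨z.1, hzV⟩).symm), fun h => ?_⟩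
      rw [h, hV.fromSpec_primeIdealOf]
    rw [hpre, PrimeSpectrum.vanishingIdeal_singleton, hspan] at hideal
    have hmax : IsLocalRing.maximalIdeal (X.presheaf.stalk z.1) =
        Ideal.span {X.presheaf.germ V z.1 hzV g} := by
      rw [← IsLocalization.AtPrime.map_eq_maximalIdeal (hV.primeIdealOf ⟨z.1, hzV⟩).asIdeal
        (X.presheaf.stalk z.1), ← hideal, Ideal.map_span, Set.image_singleton]
      rfl
    have hne : X.presheaf.germ V z.1 hzV g ≠ 0 := fun h => by
      rw [h, Ideal.span_singleton_zero] at hmax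
      exact IsDiscreteValuationRing.not_a_field _ hmax
    show (IsDiscreteValuationRing.maximalIdeal (X.presheaf.stalk z.1)).valuation X.functionField _ = _
    rw [IsDedekindDomain.HeightOneSpectrum.valuation_of_algebraMap]
    exact IsDedekindDomain.HeightOneSpectrum.intValuation_singleton _ hne hmax
  · rw [Finsupp.single_eq_of_ne (fun h => hzp (congrArg Subtype.val ((pl k X hdim).injective h))), neg_zero,
      WithZero.exp_zero]
    have hpre : hV.fromSpec ⁻¹' ({p.1} : Set X) = ∅ := by
      ext q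
      simp only [Set.mem_preimage, Set.mem_singleton_iff, Set.mem_empty_iff_false, iff_false]
      intro h
      exact hO hzp (hle (h ▸ (hV.range_fromSpec ▸ Set.mem_range_self q : hV.fromSpec q ∈ (V : Set X)))).2
    rw [hpre, PrimeSpectrum.vanishingIdeal_empty, hspan, Ideal.span_singleton_eq_top] at hideal
    refine le_antisymm ((inR_iff k X hdim z _).1 ⟨_, rfl⟩) (not_lt.1 fun hlt => ?_)
    exact (IsLocalRing.mem_maximalIdeal _).1 ((valAt_lt_one_iff k X hdim z _).1 hlt) (hideal.map _)

/-- The divisor of the ideal of a point is minus the point, up to a principal divisor. -/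
theorem divisor_ptMod (p : Pt X) (hI : PicF.IsInvertible (CurvePoint.ptMod p.1 p.2)) {U₀ : X.Opens}
    {e₀ : Γ(CurvePoint.ptMod p.1 p.2, U₀)} (he₀ : InvX.IsFrame e₀) (h₀ : genericPoint X ∈ U₀)
    (hK : FFLib.IsFF k X.functionField) :
    divisor k hdim hI he₀ h₀ + Finsupp.single (pl k X hdim p) 1 ∈ FunFld.prinDivs k X.functionField := by
  have hK' := hK
  set c : X.functionField := idealVal _ h₀ e₀ with hc
  have hval : ∀ z : Pt X, (pl k X hdim z).1 c = WithZero.exp
      (-(Finsupp.single (pl k X hdim p) (1 : ℤ) (pl k X hdim z)) - divisor k hdim hI he₀ h₀ (pl k X hdim z)) := by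
    intro z
    have h1 := val_idealVal k hdim p z (isFrame_chartE hI z) (mem_chartU hI z)
    rw [idealVal_eq _ he₀ h₀ (eta_mem (mem_chartU hI z)) (chartE hI z)] at h1
    erw [map_mul] at h1
    rw [← exp_divisor k hdim hI he₀ h₀ (isFrame_chartE hI z) (eta_mem (mem_chartU hI z)) (mem_chartU hI z)] at h1
    rw [sub_eq_neg_add, WithZero.exp_add, ← h1, ← mul_assoc, ← WithZero.exp_add, neg_add_cancel,
      WithZero.exp_zero, one_mul]
  have hc0 : c ≠ 0 := fun h => by
    have := hval p
    rw [h, map_zero] at this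
    exact WithZero.exp_ne_zero this.symm
  refine (FFLib.mem_prinDivs hK).2 ⟨c, hc0, ?_⟩
  ext P
  obtain ⟨z, rfl⟩ := (pl k X hdim).surjective P
  rw [FFLib.div_apply hK, FFLib.ord_of_val_eq _ (n := divisor k hdim hI he₀ h₀ (pl k X hdim z) +
    Finsupp.single (pl k X hdim p) (1 : ℤ) (pl k X hdim z)) (by rw [hval]; congr 1; ring), Finsupp.add_apply]

end Groth.Agent.H9PB.CurveFinFF
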