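import Groth.Agent.H9PB.CurveFinFF.Degree
import Groth.Agent.FFLib.Degree
import Groth.Agent.FFLib.Weil.Euler
import Groth.Agent.ZetaLib.PointsOfExt

/-! Closed points and places: degrees and counts. -/

noncomputable section

set_option autoImplicit false
set_option linter.style.haveILetI false
set_option linter.unusedSectionVars false
set_option backward.isDefEq.respectTransparency false
set_option backward.isDefEq.respectTransparency.types false

universe u

open CategoryTheory CategoryTheory.Limits AlgebraicGeometry TopologicalSpace Opposite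
open Groth.Agent.CurveCohLib.Polar (InR)

namespace Groth.Agent.H9PB.CurveFinFF

attribute [local instance] ffAlg

variable (k : Type u) [Field k] (X : Scheme.{u}) [X.Over (Spec (CommRingCat.of k))]
  [IsIntegral X] [IsProper (X ↘ Spec (CommRingCat.of k))] [Smooth (X ↘ Spec (CommRingCat.of k))]
  (hdim : topologicalKrullDim X = 1)

include hdim

/-- The valuation ring of a closed point is its local ring. -/
def stalkEquivO (z : Pt X) : X.presheaf.stalk z.1 ≃+* (pl k X hdim z).O :=
  RingEquiv.ofBijective
    ((algebraMap (X.presheaf.stalk z.1) X.functionField).codRestrict (pl k X hdim z).O.toSubring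
      fun a => (inR_iff k X hdim z _).1 ⟨a, rfl⟩)
    ⟨fun a b h => IsFractionRing.injective (X.presheaf.stalk z.1) X.functionField (congrArg Subtype.val h),
      fun c => by
        obtain ⟨a, ha⟩ := (inR_iff k X hdim z c.1).2 c.2
        exact ⟨a, Subtype.ext ha⟩⟩

/-- The degree of the place of a closed point is its residue degree. -/
theorem deg_pl (z : Pt X) :
    (pl k X hdim z).deg = EGA4loc.residueDegree (X ↘ Spec (CommRingCat.of k)) z.1 := by
  letI := (VarDim.resHom (X ↘ Spec (CommRingCat.of k)) z.1).toAlgebra
  rw [WeilLib.residueDegree_eq_finrank (X ↘ Spec (CommRingCat.of k)) z.1]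
  symm
  refine Algebra.finrank_eq_of_equiv_equiv (RingEquiv.refl k)
    (IsLocalRing.ResidueField.mapEquiv (stalkEquivO k X hdim z)) (RingHom.ext fun c => ?_)
  show IsLocalRing.residue (pl k X hdim z).O (algebraMap k (pl k X hdim z).O c) =
    IsLocalRing.ResidueField.map (stalkEquivO k X hdim z : X.presheaf.stalk z.1 →+* (pl k X hdim z).O)
      (IsLocalRing.residue (X.presheaf.stalk z.1) (Curv2.stalkMap k X z.1 c))
  rw [IsLocalRing.ResidueField.map_residue]
  congr 1
  exact Subtype.ext (algebraMap_eq k X z.1 c)

/-- Closed points of given degree and places of given degree. -/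
theorem degCount_eq (e : ℕ) :
    Zeta.degCount (X ↘ Spec (CommRingCat.of k)) e =
      Nat.card {P : FunFld.Place k X.functionField // P.deg = e} := by
  refine Nat.card_congr ((Equiv.subtypeSubtypeEquivSubtypeInter _ _).symm.trans
    ((pl k X hdim).subtypeEquiv fun z => ?_))
  rw [deg_pl]

/-- The two counts agree. -/
theorem nPts_eq (n : ℕ) :
    Zeta.nPts (X ↘ Spec (CommRingCat.of k)) n = FFLib.placeCount k X.functionField n := by
  unfold Zeta.nPts FFLib.placeCount
  exact Finset.sum_congr rfl fun d _ => by rw [degCount_eq k X hdim]

end Groth.Agent.H9PB.CurveFinFF
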