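import Groth.Agent.H9PB.CurveFinFF.Points
import Groth.Agent.ZetaLib.ZetaProduct
import Groth.Agent.FFLib.ZetaCount
import Groth.Agent.FFLib.Numer
import Groth.Agent.FFLib.Weil.Euler

/-! The zeta function of a curve is the zeta series of its function field. -/

noncomputable section

set_option autoImplicit false
set_option linter.style.haveILetI false
set_option linter.unusedSectionVars false
set_option backward.isDefEq.respectTransparency false
set_option backward.isDefEq.respectTransparency.types false

universe u

open CategoryTheory AlgebraicGeometry PowerSeries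

namespace Groth.Agent.H9PB.CurveFinFF

open Groth.Agent

attribute [local instance] ffAlg

variable (k : Type u) [Field k] [Finite k] {X : Scheme.{u}} [X.Over (Spec (CommRingCat.of k))]
  [IsIntegral X] [IsProper (X ↘ Spec (CommRingCat.of k))] [Smooth (X ↘ Spec (CommRingCat.of k))]
  (hdim : topologicalKrullDim X = 1) (h0 : Module.finrank k (Coh.HH X (Coh.structureModule X) 0) = 1)

include hdim h0

theorem zetaFun_eq :
    Zeta.zetaFun (X ↘ Spec (CommRingCat.of k)) =
      PowerSeries.map (Int.castRingHom ℚ) (FunFld.zetaZ k X.functionField) := by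
  have hF := (isFunctionField k X hdim h0).1
  have hcoeff : ∀ n, PowerSeries.coeff n (PowerSeries.map (Int.castRingHom ℚ) (FunFld.zetaZ k X.functionField)) =
      (FunFld.effDivCount k X.functionField n : ℚ) := fun n => by
    simp [FunFld.zetaZ]
  refine WeilLib.HasLogDeriv.unique (ZetaLib.hasLogDeriv_zetaFun _) ?_ ?_
  · unfold WeilLib.HasLogDeriv
    ext n
    rw [coeff_derivative, hcoeff, coeff_mul, Finset.Nat.sum_antidiagonal_eq_sum_range_succ_mk]
    have h := congrArg (Nat.cast : ℕ → ℚ) (FFLib.mul_effDivCount (K := X.functionField) hF (n + 1))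
    push_cast at h
    rw [mul_comm, h]
    refine Finset.sum_nbij' (fun m => n + 1 - m) (fun i => n + 1 - i) (fun m hm => ?_) (fun i hi => ?_)
      (fun m hm => ?_) (fun i hi => ?_) (fun m hm => ?_)
    · simp only [Finset.mem_Icc, Finset.mem_coe] at hm; simp only [Finset.mem_range, Finset.mem_coe]; omega
    · simp only [Finset.mem_range, Finset.mem_coe] at hi; simp only [Finset.mem_Icc, Finset.mem_coe]; omega
    · simp only [Finset.mem_Icc, Finset.mem_coe] at hm; omega
    · simp only [Finset.mem_range, Finset.mem_coe] at hi; omega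
    · simp only [Finset.mem_Icc] at hm
      rw [hcoeff, coeff_mk, nPts_eq k X hdim, show n - (n + 1 - m) + 1 = m by omega]
      ring
  · rw [ZetaLib.constantCoeff_zetaFun, ← coeff_zero_eq_constantCoeff, hcoeff,
      FFLib.effDivCount_zero hF, Nat.cast_one]

theorem zetaFun_mul (p : Polynomial ℤ) (hp : (p : PowerSeries ℤ) = FunFld.numerZ k X.functionField) :
    Zeta.zetaFun (X ↘ Spec (CommRingCat.of k)) *
        ((1 - PowerSeries.X) * (1 - PowerSeries.C (Nat.card k : ℚ) * PowerSeries.X)) =
      ((p.map (Int.castRingHom ℚ) : Polynomial ℚ) : PowerSeries ℚ) := by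
  rw [zetaFun_eq k hdim h0, Polynomial.polynomial_map_coe, hp, FunFld.numerZ]
  simp only [map_mul, map_sub, map_one, PowerSeries.map_X, PowerSeries.map_C]
  simp only [eq_intCast, Int.cast_natCast]
  ring

end Groth.Agent.H9PB.CurveFinFF
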